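import Groth.Agent.Lib.Trace12.Hom
import Groth.Agent.Lib.TensorMod.Summand

/-!
# The trace in constant rank
-/

set_option autoImplicit false
universe u

set_option linter.style.haveILetI false
set_option backward.isDefEq.respectTransparency false

open CategoryTheory CategoryTheory.Limits AlgebraicGeometry Opposite TopologicalSpace

namespace Groth.Agent.Trace12

open Groth.Agent.M1 Groth.Agent.P1Split

variable {X : Scheme.{u}} (A : RelSpec.QCAlg X) {d : ℕ}

theorem isFinLocFree_of_rank {M : X.Modules} (h : FlatMod.IsFinLocFreeOfRank d M) :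
    FlatMod.IsFinLocFree M := fun x =>
  let ⟨U, hx, hU⟩ := h x
  ⟨U, d, hx, hU⟩

theorem exists_affine_isBas (hA : FlatMod.IsFinLocFreeOfRank d A.toModule) {x : X} {W : X.Opens} (hx : x ∈ W) :
    ∃ (U : X.Opens) (e : Fin d → Γ(A.toModule, U)), IsAffineOpen U ∧ x ∈ U ∧ U ≤ W ∧ IsBas A.toModule U e := by
  obtain ⟨D, e, hxD, he⟩ := exists_isBas_nhd hA x
  have hxD' : x ∈ D ⊓ W := ⟨hxD, hx⟩
  obtain ⟨U, hU, hxU, hle⟩ := exists_isAffineOpen_mem_and_subset hxD'
  exact ⟨U, _, hU, hxU, fun z hz => (hle hz).2, he.mres fun z hz => (hle hz).1⟩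

theorem hom_ext_rank (hA : FlatMod.IsFinLocFreeOfRank d A.toModule) {N : X.Modules}
    {τ τ' : N ⟶ Coh.structureModule X}
    (h : ∀ (U : X.Opens) (e : Fin d → Γ(A.toModule, U)), IsAffineOpen U → IsBas A.toModule U e →
      ∀ a, τ.app U a = τ'.app U a) : τ = τ' := by
  refine Scheme.Modules.hom_ext _ _ fun V => ?_
  ext a
  refine TopCat.Presheaf.section_ext X.sheaf V _ _ fun x hx => ?_
  obtain ⟨U, e, hU, hxU, hle, he⟩ := exists_affine_isBas A hA (show x ∈ V from hx)
  have h1 := congrArg (X.presheaf.germ U x hxU) (h U e hU he (mres N hle a))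
  rw [app_mres, app_mres] at h1
  exact ((X.presheaf.germ_res_apply (homOfLE hle) x hxU (τ.app V a)).symm.trans h1).trans
    (X.presheaf.germ_res_apply (homOfLE hle) x hxU (τ'.app V a))

theorem app_eq_tr' {τ : A.toModule ⟶ Coh.structureModule X} (hτ : FinCov.IsTrace A τ) {U : X.Opens}
    (hU : IsAffineOpen U) {e : Fin d → Γ(A.toModule, U)} (he : IsBas A.toModule U e) (a : Γ(A.toModule, U)) :
    τ.app U a = tr A U (asRing A a) :=
  app_eq_tr A hτ hU ⟨d, e, he⟩ a

theorem tr_str {U : X.Opens} {e : Fin d → Γ(A.toModule, U)} (he : IsBas A.toModule U e) (c : Γ(X, U)) :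
    tr A U ((A.str.app (op U)).hom c) = d • c := by
  letI := alg A U
  obtain ⟨b, -⟩ := exists_basis A he
  exact (Algebra.trace_algebraMap_of_basis b c).trans (by rw [Fintype.card_fin])

theorem strMod_comp_trace (hA : FlatMod.IsFinLocFreeOfRank d A.toModule)
    (τ : A.toModule ⟶ Coh.structureModule X) (hτ : FinCov.IsTrace A τ) :
    FinCov.strMod A ≫ τ = d • 𝟙 (Coh.structureModule X) := by
  refine hom_ext_rank A hA fun U e hU he a => ?_
  have h1 : (d • 𝟙 (Coh.structureModule X) : Coh.structureModule X ⟶ _).app U a = d • a := by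
    clear he hU e hA
    induction d with
    | zero => simp
    | succ k ih => rw [succ_nsmul, succ_nsmul, Scheme.Modules.Hom.add_app, ← ih]; rfl
  rw [h1]
  show τ.app U (asMod A ((A.str.app (op U)).hom (a : Γ(X, U)))) = _
  rw [app_eq_tr' A hτ hU he]
  exact tr_str A he a

theorem exists_section_trace (hA : FlatMod.IsFinLocFreeOfRank d A.toModule)
    (τ : A.toModule ⟶ Coh.structureModule X) (hτ : FinCov.IsTrace A τ) (hd : IsUnit ((d : Γ(X, ⊤)))) :
    ∃ s : Coh.structureModule X ⟶ A.toModule, s ≫ τ = 𝟙 _ := by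
  obtain ⟨u, hu⟩ := hd.exists_left_inv
  refine ⟨secHom (asMod A ((A.str.app (op ⊤)).hom u)), ?_⟩
  rw [secHom_comp]
  refine unit_hom_ext ?_
  rw [secHom_app_one]
  show τ.app ⊤ (asMod A _) = one ⊤
  refine eq_of_res_eq A (isFinLocFree_of_rank hA) _ _ fun U hU _ _ => ?_
  refine TopCat.Presheaf.section_ext X.sheaf U _ _ fun x hx => ?_
  obtain ⟨W, e, hW, hxW, hle, he⟩ := exists_affine_isBas A hA (show x ∈ U from hx)
  have h1 : mres (Coh.structureModule X) (hle.trans hU) (τ.app ⊤ (asMod A ((A.str.app (op ⊤)).hom u))) =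
      (ores (hle.trans hU) (1 : Γ(X, ⊤)) : Γ(X, W)) := by
    rw [← app_mres, app_eq_tr' A hτ hW he,
      show asRing A (mres A.toModule (hle.trans hU) (asMod A ((A.str.app (op ⊤)).hom u))) =
        (A.str.app (op W)).hom (ores (hle.trans hU) u) from
      congr($(A.str.naturality (homOfLE (hle.trans hU)).op) u).symm, tr_str A he, ← map_nsmul, ← hu,
      nsmul_eq_mul, mul_comm]
  have h2 := congrArg (X.presheaf.germ W x hxW) h1
  erw [X.presheaf.germ_res_apply, X.presheaf.germ_res_apply] at h2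
  erw [X.presheaf.germ_res_apply, X.presheaf.germ_res_apply]
  exact h2

theorem isFinLocFreeOfRank_kernel (hA : FlatMod.IsFinLocFreeOfRank d A.toModule)
    (τ : A.toModule ⟶ Coh.structureModule X) (s : Coh.structureModule X ⟶ A.toModule) (hs : s ≫ τ = 𝟙 _) :
    FlatMod.IsFinLocFreeOfRank (d - 1) (kernel τ) := by
  let p : A.toModule ⟶ kernel τ := kernel.lift τ (𝟙 _ - τ ≫ s) (by
    rw [Preadditive.sub_comp, Category.assoc, hs, Category.id_comp, Category.comp_id, sub_self])
  have hp : kernel.ι τ ≫ p = 𝟙 _ := by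
    rw [← cancel_mono (kernel.ι τ), Category.assoc, kernel.lift_ι, Preadditive.comp_sub, Category.comp_id,
      kernel.condition_assoc, zero_comp, sub_zero, Category.id_comp]
  have hK : FlatMod.IsFinLocFree (kernel τ) :=
    M2.isFinLocFree_of_retract (isFinLocFree_of_rank hA) (kernel.ι τ) p hp
  intro x
  obtain ⟨U, n, hxU, ⟨φ⟩⟩ := hK x
  suffices n = d - 1 by subst this; exact ⟨U, hxU, ⟨φ⟩⟩
  have hb := (isBas_coprod (fun _ : Fin n => Coh.structureModule (U : Scheme.{u})) (fun _ => one ⊤)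
    fun _ => isGen_one ⊤).map_iso φ.symm
  have hf := isBas_of_restrict U.ι (kernel τ) hb
  obtain ⟨W, e, hW, hxW, hle, he⟩ := exists_affine_isBas A hA (show x ∈ U.ι ''ᵁ ⊤ from ⟨⟨x, hxU⟩, trivial, rfl⟩)
  have hf' := hf.mres hle W le_rfl
  simp only [mres_id] at hf'
  obtain ⟨f, hfb⟩ : ∃ f : Fin n → Γ(kernel τ, W), Function.Bijective fun c : Fin n → Γ(X, W) => ∑ i, c i • f i :=
    ⟨_, hf'⟩
  have he' := he W le_rfl
  simp only [mres_id] at he'
  haveI : Nontrivial Γ(X, W) :=
    nontrivial_of_ne 1 0 fun h10 => one_ne_zero (α := X.presheaf.stalk x) (by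
      rw [← map_one (X.presheaf.germ W x hxW).hom, h10, map_zero])
  let LA : (Fin d → Γ(X, W)) ≃ₗ[Γ(X, W)] Γ(A.toModule, W) :=
    LinearEquiv.ofBijective (Fintype.linearCombination Γ(X, W) e) he'
  let LK : (Fin n → Γ(X, W)) ≃ₗ[Γ(X, W)] Γ(kernel τ, W) :=
    LinearEquiv.ofBijective (Fintype.linearCombination Γ(X, W) f) hfb
  let g : (Fin n → Γ(X, W)) × Γ(X, W) →ₗ[Γ(X, W)] Γ(A.toModule, W) :=
    { toFun := fun c => (kernel.ι τ).app W (LK c.1) + s.app W (c.2 • one W)
      map_add' := fun c c' => by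
        simp only [Prod.fst_add, Prod.snd_add, map_add, add_smul]; abel
      map_smul' := fun r c => by
        simp only [Prod.smul_fst, Prod.smul_snd, RingHom.id_apply, smul_add, map_smul, Scheme.Modules.Hom.app_smul]
        rw [smul_assoc] }
  have hτι : ∀ k, τ.app W ((kernel.ι τ).app W k) = 0 := fun k => by
    rw [← CategoryTheory.comp_apply, ← Scheme.Modules.Hom.comp_app, kernel.condition]; rfl
  have hτs : ∀ a, τ.app W (s.app W a) = a := fun a => by
    rw [← CategoryTheory.comp_apply, ← Scheme.Modules.Hom.comp_app, hs]; rfl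
  have hone : ∀ c : Γ(X, W), (c • one W : Γ(Coh.structureModule X, W)) = c := fun c => mul_one c
  have hdec : ∀ m, (kernel.ι τ).app W (p.app W m) = m - s.app W (τ.app W m) := fun m => by
    rw [← CategoryTheory.comp_apply, ← Scheme.Modules.Hom.comp_app, kernel.lift_ι, Scheme.Modules.Hom.sub_app]
    rfl
  have hpι : ∀ k, p.app W ((kernel.ι τ).app W k) = k := fun k => by
    rw [← CategoryTheory.comp_apply, ← Scheme.Modules.Hom.comp_app, hp]; rfl
  have hg : Function.Bijective g := by
    refine ⟨(injective_iff_map_eq_zero g).2 fun c hc => ?_,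
      fun m => ⟨(LK.symm (p.app W m), (τ.app W m : Γ(X, W))), ?_⟩⟩
    · have h2 := congrArg (τ.app W) hc
      simp only [g, LinearMap.coe_mk, AddHom.coe_mk, map_add, hτι, hτs, zero_add, map_zero, hone] at h2
      have hc' : (kernel.ι τ).app W (LK c.1) = 0 := by
        have := hc
        simp only [g, LinearMap.coe_mk, AddHom.coe_mk] at this
        rw [show c.2 = 0 from h2, zero_smul, map_zero, add_zero] at this
        exact this
      have h3 := congrArg (p.app W) hc'
      rw [hpι, map_zero] at h3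
      exact Prod.ext (LK.map_eq_zero_iff.1 h3) h2
    · simp only [g, LinearMap.coe_mk, AddHom.coe_mk, LinearEquiv.apply_symm_apply, hone, hdec]
      abel
  have := (((LinearEquiv.ofBijective g hg).trans LA.symm)).finrank_eq
  simp at this
  omega

end Groth.Agent.Trace12
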