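import Groth.Agent.Lib.P1Split17.Basis
import Groth.Agent.Lib.ModM1.QCAlgGen
import Groth.Prelude.Def_FinCov
import Mathlib.RingTheory.Trace.Basic

/-!
# The trace of a finite locally free algebra over a scheme
-/

set_option autoImplicit false
universe u

set_option linter.style.haveILetI false
set_option backward.isDefEq.respectTransparency false

open CategoryTheory CategoryTheory.Limits AlgebraicGeometry Opposite TopologicalSpace

namespace Groth.Agent.Trace12

open Groth.Agent.M1 Groth.Agent.P1Split

variable {X : Scheme.{u}} (A : RelSpec.QCAlg X)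

/-- The algebra of sections. -/
noncomputable abbrev alg (U : X.Opens) : Algebra Γ(X, U) (A.presheaf.obj (op U)) :=
  (A.str.app (op U)).hom.toAlgebra

/-- The trace on sections. -/
noncomputable def tr (U : X.Opens) (a : A.presheaf.obj (op U)) : Γ(X, U) :=
  letI := alg A U
  Algebra.trace Γ(X, U) (A.presheaf.obj (op U)) a

/-- A section of the module, read in the ring of sections. -/
abbrev asRing {U : X.Opens} (m : Γ(A.toModule, U)) : A.presheaf.obj (op U) := m

/-- An element of the ring of sections, read as a section of the module. -/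
abbrev asMod {U : X.Opens} (a : A.presheaf.obj (op U)) : Γ(A.toModule, U) := a

/-- The algebra is free on `U`, compatibly with restrictions. -/
def HasBas (U : X.Opens) : Prop := ∃ (n : ℕ) (e : Fin n → Γ(A.toModule, U)), IsBas A.toModule U e

theorem HasBas.mono {U V : X.Opens} (h : V ≤ U) (hU : HasBas A U) : HasBas A V := by
  obtain ⟨n, e, he⟩ := hU
  exact ⟨n, _, he.mres h⟩

theorem exists_basis {U : X.Opens} {n : ℕ} {e : Fin n → Γ(A.toModule, U)} (he : IsBas A.toModule U e) :
    letI := alg A U
    ∃ b : Module.Basis (Fin n) Γ(X, U) (A.presheaf.obj (op U)), ∀ i, b i = asRing A (e i) := by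
  letI := alg A U
  let L : (Fin n → Γ(X, U)) →ₗ[Γ(X, U)] A.presheaf.obj (op U) :=
    Fintype.linearCombination Γ(X, U) fun i => asRing A (e i)
  have hb : Function.Bijective L := by
    have h1 := he U le_rfl
    simp only [mres_id] at h1
    exact h1
  refine ⟨Module.Basis.ofEquivFun (LinearEquiv.ofBijective L hb).symm, fun i => ?_⟩
  rw [Module.Basis.coe_ofEquivFun, LinearEquiv.symm_symm]
  show L (Pi.single i 1) = _
  rw [Fintype.linearCombination_apply_single, one_smul]

theorem free_of_hasBas {U : X.Opens} (h : HasBas A U) :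
    letI := alg A U
    Module.Free Γ(X, U) (A.presheaf.obj (op U)) ∧ Module.Finite Γ(X, U) (A.presheaf.obj (op U)) := by
  letI := alg A U
  obtain ⟨n, e, he⟩ := h
  obtain ⟨b, -⟩ := exists_basis A he
  exact ⟨Module.Free.of_basis b, Module.Finite.of_basis b⟩

theorem presheaf_map_smul {U V : X.Opens} (h : V ≤ U) (c : Γ(X, U)) (a : A.presheaf.obj (op U)) :
    letI := alg A U
    letI := alg A V
    A.presheaf.map (homOfLE h).op (c • a) =
      ores h c • A.presheaf.map (homOfLE h).op a :=
  mres_smul A.toModule h c (asMod A a)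

/-- The trace commutes with restriction to smaller opens. -/
theorem res_tr {U V : X.Opens} (h : V ≤ U) (hU : HasBas A U) (a : A.presheaf.obj (op U)) :
    ores h (tr A U a) = tr A V (A.presheaf.map (homOfLE h).op a) := by
  letI := alg A U
  letI := alg A V
  obtain ⟨n, e, he⟩ := hU
  obtain ⟨b, hb⟩ := exists_basis A he
  obtain ⟨b', hb'⟩ := exists_basis A (he.mres h)
  have hb'' : ∀ i, b' i = A.presheaf.map (homOfLE h).op (b i) := fun i => by rw [hb', hb]; rfl
  have key : ∀ (x : A.presheaf.obj (op U)) (i : Fin n),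
      b'.repr (A.presheaf.map (homOfLE h).op x) i = ores h (b.repr x i) := by
    intro x i
    conv_lhs => rw [← b.sum_repr x, map_sum]
    simp only [presheaf_map_smul A h, ← hb'', map_sum, map_smul, Module.Basis.repr_self]
    simp [Finsupp.single_apply]
  unfold tr
  rw [Algebra.trace_eq_matrix_trace b, Algebra.trace_eq_matrix_trace b', Matrix.trace, Matrix.trace, map_sum]
  refine Finset.sum_congr rfl fun i _ => ?_
  simp only [Matrix.diag_apply, Algebra.leftMulMatrix_eq_repr_mul]
  rw [hb'', ← map_mul, key]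

theorem hasBas_of_free {U : X.Opens} (hU : IsAffineOpen U)
    (h1 : letI := alg A U; Module.Free Γ(X, U) (A.presheaf.obj (op U)))
    (h2 : letI := alg A U; Module.Finite Γ(X, U) (A.presheaf.obj (op U))) : HasBas A U := by
  letI := alg A U
  haveI := h1
  haveI := h2
  haveI := QC.isQCoh_toModule A
  rcases subsingleton_or_nontrivial Γ(X, U) with hs | hs
  · refine ⟨0, Fin.elim0, fun V hV => ⟨fun _ _ _ => funext fun i => i.elim0, fun m => ⟨fun i => i.elim0, ?_⟩⟩⟩
    have h1V : (1 : Γ(X, V)) = 0 := by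
      rw [← map_one (ores hV).hom, show (1 : Γ(X, U)) = 0 from Subsingleton.elim _ _, map_zero]
    rw [← one_smul Γ(X, V) m, h1V, zero_smul]
    simp
  obtain ⟨b⟩ : Nonempty (Module.Basis (Fin (Module.finrank Γ(X, U) (A.presheaf.obj (op U)))) Γ(X, U)
      (A.presheaf.obj (op U))) := ⟨Module.finBasis _ _⟩
  refine ⟨_, fun i => asMod A (b i), isBas_of_stalk fun x hx => ?_⟩
  letI := stalkModule A.toModule hx
  haveI := isLocalizedModule_germ A.toModule hU hx
  let := TopCat.Presheaf.algebra_section_stalk X.presheaf (⟨x, hx⟩ : U)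
  haveI := hU.isLocalization_stalk ⟨x, hx⟩
  haveI : IsScalarTower Γ(X, U) (X.presheaf.stalk x) (A.toModule.presheaf.stalk x) :=
    IsScalarTower.of_algebraMap_smul fun _ _ => rfl
  let L : A.presheaf.obj (op U) ≃ₗ[Γ(X, U)] Γ(A.toModule, U) :=
    { toFun := fun a => asMod A a
      invFun := fun a => asRing A a
      map_add' := fun _ _ => rfl
      map_smul' := fun _ _ => rfl
      left_inv := fun _ => rfl
      right_inv := fun _ => rfl }
  let B := (b.map L).ofIsLocalizedModule (X.presheaf.stalk x) (hU.primeIdealOf ⟨x, hx⟩).asIdeal.primeCompl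
    (germₗ A.toModule hx)
  have : (fun c : Fin _ → X.presheaf.stalk x => ∑ i, c i • (A.toModule.presheaf.germ U x hx (asMod A (b i)) :
      A.toModule.presheaf.stalk x)) = B.equivFun.symm := by
    funext c
    rw [Module.Basis.equivFun_symm_apply]
    refine Finset.sum_congr rfl fun i _ => ?_
    simp only [B, Module.Basis.ofIsLocalizedModule_apply]
    rfl
  rw [this]
  exact B.equivFun.symm.bijective

theorem exists_affine_hasBas (hA : FlatMod.IsFinLocFree A.toModule) {x : X} {W : X.Opens} (hx : x ∈ W) :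
    ∃ U : X.Opens, IsAffineOpen U ∧ x ∈ U ∧ U ≤ W ∧ HasBas A U := by
  obtain ⟨D, n, hxD, ⟨φ⟩⟩ := hA x
  have hb := (isBas_coprod (fun _ : Fin n => Coh.structureModule (D : Scheme.{u})) (fun _ => one ⊤)
    fun _ => isGen_one ⊤).map_iso φ.symm
  have hbas : HasBas A (D.ι ''ᵁ ⊤) := ⟨n, _, isBas_of_restrict D.ι A.toModule hb⟩
  have hxD' : x ∈ D.ι ''ᵁ ⊤ ⊓ W := ⟨⟨⟨x, hxD⟩, trivial, rfl⟩, hx⟩
  obtain ⟨U, hU, hxU, hle⟩ := exists_isAffineOpen_mem_and_subset hxD'
  exact ⟨U, hU, hxU, fun z hz => (hle hz).2, hbas.mono A fun z hz => (hle hz).1⟩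

theorem eq_of_res_eq {V : X.Opens} (hA : FlatMod.IsFinLocFree A.toModule) (c d : Γ(X, V))
    (h : ∀ (U : X.Opens) (hU : U ≤ V), IsAffineOpen U → HasBas A U → ores hU c = ores hU d) : c = d := by
  refine TopCat.Presheaf.section_ext X.sheaf V c d fun x hx => ?_
  obtain ⟨U, hU, hxU, hle, hb⟩ := exists_affine_hasBas A hA hx
  have := congrArg (X.presheaf.germ U x hxU) (h U hle hU hb)
  rwa [show X.presheaf.germ U x hxU (ores hle c) = X.presheaf.germ V x hx c from
      X.presheaf.germ_res_apply _ x hxU c,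
    show X.presheaf.germ U x hxU (ores hle d) = X.presheaf.germ V x hx d from
      X.presheaf.germ_res_apply _ x hxU d] at this

theorem existsUnique_section (hA : FlatMod.IsFinLocFree A.toModule) (V : X.Opens)
    (a : A.presheaf.obj (op V)) :
    ∃! c : Γ(X, V), ∀ (U : X.Opens) (hU : U ≤ V), HasBas A U →
      ores hU c = tr A U (A.presheaf.map (homOfLE hU).op a) := by
  let ι := {U : X.Opens // U ≤ V ∧ HasBas A U}
  have hcov : V ≤ ⨆ i : ι, i.1 := fun x hx => by
    obtain ⟨U, _, hxU, hle, hb⟩ := exists_affine_hasBas A hA (show x ∈ V from hx)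
    exact Opens.mem_iSup.2 ⟨⟨U, hle, hb⟩, hxU⟩
  let s : ∀ i : ι, Γ(X, i.1) := fun i => tr A i.1 (A.presheaf.map (homOfLE i.2.1).op a)
  have hmap : ∀ {U W : X.Opens} (h₁ : W ≤ U) (h₂ : U ≤ V),
      A.presheaf.map (homOfLE h₁).op (A.presheaf.map (homOfLE h₂).op a) =
        A.presheaf.map (homOfLE (h₁.trans h₂)).op a := fun h₁ h₂ => mres_mres A.toModule h₂ h₁ (asMod A a)
  obtain ⟨c, hc, huniq⟩ := X.sheaf.existsUnique_gluing' (fun i : ι => i.1) V (fun i => homOfLE i.2.1) hcov s
    fun i j => by
      show ores (inf_le_left : i.1 ⊓ j.1 ≤ i.1) (s i) = ores (inf_le_right : i.1 ⊓ j.1 ≤ j.1) (s j)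
      simp only [s]
      rw [res_tr A _ i.2.2, res_tr A _ j.2.2, hmap, hmap]
  refine ⟨c, fun U hU hb => hc ⟨U, hU, hb⟩, fun d hd => huniq d fun i => hd i.1 i.2.1 i.2.2⟩

/-- The value of the global trace. -/
noncomputable def trVal (hA : FlatMod.IsFinLocFree A.toModule) (V : X.Opens) (a : A.presheaf.obj (op V)) :
    Γ(X, V) :=
  (existsUnique_section A hA V a).choose

theorem ores_trVal (hA : FlatMod.IsFinLocFree A.toModule) {V U : X.Opens} (a : A.presheaf.obj (op V))
    (hU : U ≤ V) (hb : HasBas A U) :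
    ores hU (trVal A hA V a) = tr A U (A.presheaf.map (homOfLE hU).op a) :=
  (existsUnique_section A hA V a).choose_spec.1 U hU hb

theorem tr_add (U : X.Opens) (a b : A.presheaf.obj (op U)) : tr A U (a + b) = tr A U a + tr A U b := by
  letI := alg A U
  exact map_add (Algebra.trace Γ(X, U) (A.presheaf.obj (op U))) a b

theorem tr_mul (U : X.Opens) (c : Γ(X, U)) (a : A.presheaf.obj (op U)) :
    tr A U ((A.str.app (op U)).hom c * a) = c * tr A U a := by
  letI := alg A U
  exact map_smul (Algebra.trace Γ(X, U) (A.presheaf.obj (op U))) c a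

theorem trVal_mul (hA : FlatMod.IsFinLocFree A.toModule) (V : X.Opens) (c : Γ(X, V))
    (a : A.presheaf.obj (op V)) : trVal A hA V ((A.str.app (op V)).hom c * a) = c * trVal A hA V a :=
  eq_of_res_eq A hA _ _ fun U hU _ hb => by
    rw [map_mul, ores_trVal A hA _ hU hb, ores_trVal A hA _ hU hb, ← tr_mul, map_mul]
    congr 2
    exact congr($(A.str.naturality (homOfLE hU).op) c).symm

/-- The trace, as a morphism of modules. -/
noncomputable def traceHom (hA : FlatMod.IsFinLocFree A.toModule) : A.toModule ⟶ Coh.structureModule X :=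
  ⟨PresheafOfModules.homMk
    { app := fun V => AddCommGrpCat.ofHom (AddMonoidHom.mk' (fun a => trVal A hA V.unop (asRing A a)) fun a b =>
        eq_of_res_eq A hA _ _ fun U hU _ hb => by
          rw [map_add, ores_trVal A hA _ hU hb, ores_trVal A hA _ hU hb, ores_trVal A hA _ hU hb, ← tr_add]
          exact congrArg _ (map_add (A.presheaf.map (homOfLE hU).op).hom a b))
      naturality := fun V W i => by
        ext a
        show trVal A hA W.unop (A.presheaf.map i (asRing A a)) = ores i.unop.le (trVal A hA V.unop (asRing A a))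
        refine eq_of_res_eq A hA _ _ fun U hU _ hb => ?_
        rw [ores_trVal A hA _ hU hb, ores_ores, ores_trVal A hA _ (hU.trans i.unop.le) hb]
        exact congrArg _ (mres_mres A.toModule i.unop.le hU a) }
    (fun V c a => trVal_mul A hA V.unop c (asRing A a))⟩

theorem traceHom_app_of_hasBas (hA : FlatMod.IsFinLocFree A.toModule) {U : X.Opens} (hb : HasBas A U)
    (a : Γ(A.toModule, U)) : (traceHom A hA).app U a = tr A U (asRing A a) := by
  show trVal A hA U (asRing A a) = _
  have := ores_trVal A hA (asRing A a) (le_refl U) hb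
  rw [ores_id] at this
  rw [this]
  exact congrArg _ (mres_id A.toModule _ a)

theorem isTrace_traceHom (hA : FlatMod.IsFinLocFree A.toModule) : FinCov.IsTrace A (traceHom A hA) := by
  intro U hU h1 h2 a
  exact traceHom_app_of_hasBas A hA (hasBas_of_free A hU h1 h2) a

theorem app_eq_tr {τ : A.toModule ⟶ Coh.structureModule X} (hτ : FinCov.IsTrace A τ) {U : X.Opens}
    (hU : IsAffineOpen U) (hb : HasBas A U) (a : Γ(A.toModule, U)) : τ.app U a = tr A U (asRing A a) :=
  hτ U hU (free_of_hasBas A hb).1 (free_of_hasBas A hb).2 (asRing A a)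

/-- Morphisms to the structure sheaf agreeing on small affine opens are equal. -/
theorem hom_ext {N : X.Modules} (hA : FlatMod.IsFinLocFree A.toModule) {τ τ' : N ⟶ Coh.structureModule X}
    (h : ∀ U : X.Opens, IsAffineOpen U → HasBas A U → ∀ a, τ.app U a = τ'.app U a) : τ = τ' := by
  refine Scheme.Modules.hom_ext _ _ fun V => ?_
  ext a
  refine eq_of_res_eq A hA _ _ fun U hU haf hb => ?_
  show mres (Coh.structureModule X) hU (τ.app V a) = mres (Coh.structureModule X) hU (τ'.app V a)
  rw [← app_mres, ← app_mres]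
  exact h U haf hb _

theorem existsUnique_isTrace (hA : FlatMod.IsFinLocFree A.toModule) :
    ∃! τ : A.toModule ⟶ Coh.structureModule X, FinCov.IsTrace A τ :=
  ⟨traceHom A hA, isTrace_traceHom A hA, fun τ hτ => hom_ext A hA fun U hU hb a => by
    rw [app_eq_tr A hτ hU hb, traceHom_app_of_hasBas A hA hb]⟩

end Groth.Agent.Trace12
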