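import Groth.Agent.Lib.Trace12.Rank
import Groth.Agent.Lib.TensorMod.Hom
import Groth.Prelude.Def_Omega4
import Mathlib.LinearAlgebra.Matrix.Charpoly.Coeff

/-!
# Rank two algebras as `O ⊕ ker trace`
-/

set_option autoImplicit false
universe u

set_option linter.style.haveILetI false
set_option backward.isDefEq.respectTransparency false

open CategoryTheory CategoryTheory.Limits AlgebraicGeometry Opposite TopologicalSpace

namespace Groth.Agent.Trace12

open Groth.Agent.M1 Groth.Agent.P1Split

variable {X : Scheme.{u}} (A : RelSpec.QCAlg X)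

theorem mul_self_eq {U : X.Opens} {e : Fin 2 → Γ(A.toModule, U)} (he : IsBas A.toModule U e)
    (a : A.presheaf.obj (op U)) :
    ∃ c : Γ(X, U), a * a = (A.str.app (op U)).hom (tr A U a) * a - (A.str.app (op U)).hom c := by
  letI := alg A U
  obtain ⟨b, -⟩ := exists_basis A he
  let M := Algebra.leftMulMatrix b a
  refine ⟨M.det, Algebra.leftMulMatrix_injective b ?_⟩
  show Algebra.leftMulMatrix b (a * a) = Algebra.leftMulMatrix b
    (algebraMap Γ(X, U) _ (tr A U a) * a - algebraMap Γ(X, U) _ M.det)
  rw [map_sub, map_mul, map_mul, AlgHom.commutes, AlgHom.commutes]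
  unfold tr
  rw [Algebra.trace_eq_matrix_trace b]
  ext i j
  fin_cases i <;> fin_cases j <;>
    simp [M, Matrix.mul_apply, Fin.sum_univ_two, Matrix.trace_fin_two, Matrix.det_fin_two,
      Matrix.algebraMap_matrix_apply] <;> ring

theorem exists_str_eq_mul {U : X.Opens} {e : Fin 2 → Γ(A.toModule, U)} (he : IsBas A.toModule U e)
    {v : Γ(X, U)} (hv : v * 2 = 1) {a b : A.presheaf.obj (op U)} (ha : tr A U a = 0) (hb : tr A U b = 0) :
    a * b = (A.str.app (op U)).hom (v * tr A U (a * b)) := by
  obtain ⟨c₁, h₁⟩ := mul_self_eq A he a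
  obtain ⟨c₂, h₂⟩ := mul_self_eq A he b
  obtain ⟨c₃, h₃⟩ := mul_self_eq A he (a + b)
  rw [ha, map_zero, zero_mul, zero_sub] at h₁
  rw [hb, map_zero, zero_mul, zero_sub] at h₂
  rw [tr_add, ha, hb, add_zero, map_zero, zero_mul, zero_sub] at h₃
  let s := (A.str.app (op U)).hom
  have e2 : s v * 2 = 1 := by rw [← map_ofNat s 2, ← map_mul, hv, map_one]
  have key : a * b = s (v * (c₁ + c₂ - c₃)) := by
    rw [map_mul, map_sub, map_add]
    linear_combination (s v) * h₃ - (s v) * h₁ - (s v) * h₂ - (a * b) * e2
  rw [key, tr_str A he, nsmul_eq_mul, ← mul_assoc v, Nat.cast_ofNat, hv, one_mul]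

theorem exists_isDblAlg_kernel (hA : FlatMod.IsFinLocFreeOfRank 2 A.toModule)
    (τ : A.toModule ⟶ Coh.structureModule X) (hτ : FinCov.IsTrace A τ) (h2 : IsUnit (2 : Γ(X, ⊤))) :
    ∃ m : CohB1.tensorMod (kernel τ) (kernel τ) ⟶ Coh.structureModule X,
      FinCov.IsDblAlg (kernel τ) m A (kernel.ι τ) := by
  obtain ⟨u, hu⟩ := h2.exists_left_inv
  let v : ∀ U : X.Opens, Γ(X, U) := fun U => ores le_top u
  have hv : ∀ U, v U * 2 = 1 := fun U => by
    have := congrArg (ores (le_top : U ≤ ⊤)) hu
    rwa [map_mul, map_ofNat, map_one] at this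
  have hτι : ∀ (U : X.Opens) (l : Γ(kernel τ, U)), τ.app U ((kernel.ι τ).app U l) = 0 := fun U l => by
    rw [← CategoryTheory.comp_apply, ← Scheme.Modules.Hom.comp_app, kernel.condition]; rfl
  let j : ∀ (U : X.Opens), Γ(kernel τ, U) → A.presheaf.obj (op U) := fun U l => asRing A ((kernel.ι τ).app U l)
  let T : ∀ (U : X.Opens), A.presheaf.obj (op U) → Γ(X, U) := fun U a => τ.app U (asMod A a)
  have hTres : ∀ {U V : X.Opens} (h : V ≤ U) (a : A.presheaf.obj (op U)),
      ores h (T U a) = T V (A.presheaf.map (homOfLE h).op a) := fun h a => (app_mres τ h (asMod A a)).symm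
  have hTmul : ∀ (U : X.Opens) (c : Γ(X, U)) (a : A.presheaf.obj (op U)),
      T U ((A.str.app (op U)).hom c * a) = c * T U a := fun U c a => Scheme.Modules.Hom.app_smul τ c (asMod A a)
  have hjsmul : ∀ (U : X.Opens) (c : Γ(X, U)) (l : Γ(kernel τ, U)),
      j U (c • l) = (A.str.app (op U)).hom c * j U l := fun U c l => Scheme.Modules.Hom.app_smul (kernel.ι τ) c l
  have hjres : ∀ {U V : X.Opens} (h : V ≤ U) (l : Γ(kernel τ, U)),
      j V (mres (kernel τ) h l) = A.presheaf.map (homOfLE h).op (j U l) := fun h l => app_mres (kernel.ι τ) h l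
  have hone : ∀ (U : X.Opens), T U 1 = 2 := by
    intro U
    refine TopCat.Presheaf.section_ext X.sheaf U _ _ fun x hx => ?_
    obtain ⟨W, e, hW, hxW, hle, he⟩ := exists_affine_isBas A hA (show x ∈ U from hx)
    have h1 : ores hle (T U 1) = ores hle (2 : Γ(X, U)) := by
      rw [hTres, map_one, map_ofNat]
      have h0 := (app_eq_tr' A hτ hW he (asMod A 1)).trans
        (show tr A W (1 : A.presheaf.obj (op W)) = 2 by
          rw [← map_one (A.str.app (op W)).hom, tr_str A he]; simp)
      exact h0
    have := congrArg (X.presheaf.germ W x hxW) h1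
    erw [X.presheaf.germ_res_apply, X.presheaf.germ_res_apply] at this
    exact this
  let B : M2.BiMap (kernel τ) (kernel τ) (Coh.structureModule X) :=
    { f := fun U l l' => (v U * T U (j U l * j U l') : Γ(X, U))
      add_left := fun U a b c => by
        show v U * T U (j U (a + b) * j U c) = v U * T U (j U a * j U c) + v U * T U (j U b * j U c)
        have hj : j U (a + b) = j U a + j U b := map_add ((kernel.ι τ).app U).hom a b
        rw [hj, add_mul, ← mul_add]
        exact congrArg _ (map_add (τ.app U).hom (asMod A _) (asMod A _))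
      smul_left := fun U r a c => by
        show v U * T U (j U (r • a) * j U c) = r * (v U * T U (j U a * j U c))
        rw [hjsmul, mul_assoc, hTmul]; ring
      add_right := fun U a b c => by
        show v U * T U (j U a * j U (b + c)) = v U * T U (j U a * j U b) + v U * T U (j U a * j U c)
        have hj : j U (b + c) = j U b + j U c := map_add ((kernel.ι τ).app U).hom b c
        rw [hj, ← mul_add, mul_add (j U a)]
        exact congrArg _ (map_add (τ.app U).hom (asMod A _) (asMod A _))
      smul_right := fun U r a c => by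
        show v U * T U (j U a * j U (r • c)) = r * (v U * T U (j U a * j U c))
        rw [hjsmul, mul_left_comm, hTmul]; ring
      compat := fun {U V} h a c => by
        show v V * T V (j V (mres (kernel τ) h a) * j V (mres (kernel τ) h c)) =
          ores h (v U * T U (j U a * j U c))
        rw [hjres, hjres, ← map_mul, ← hTres, map_mul]
        simp only [v, ores_ores] }
  refine ⟨M2.mkHom B, fun U => ⟨fun p q hpq => ?_, fun a => ?_⟩, fun U l l' => ?_⟩
  · have h1 : ∀ p : Γ(X, U) × Γ(kernel τ, U), T U ((A.str.app (op U)).hom p.1 + j U p.2) = p.1 * 2 := fun p => by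
      show (τ.app U) (asMod A ((A.str.app (op U)).hom p.1) + (kernel.ι τ).app U p.2) = _
      rw [map_add, hτι, add_zero]
      show T U ((A.str.app (op U)).hom p.1) = _
      rw [← mul_one ((A.str.app (op U)).hom p.1), hTmul, hone]
    have e1 := congrArg (T U) hpq
    erw [h1 p, h1 q] at e1
    have hp1 : p.1 = q.1 := by
      have := congrArg (· * v U) e1
      simpa [mul_assoc, mul_comm (2 : Γ(X, U)) (v U), hv] using this
    refine Prod.ext hp1 ?_
    have h3 : j U p.2 = j U q.2 := by
      have := hpq
      simp only [hp1] at this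
      exact add_left_cancel this
    exact OmegaSh.ι_app_injective τ U h3
  · let c : Γ(X, U) := v U * T U a
    have hker : τ.app U (asMod A (a - (A.str.app (op U)).hom c)) = 0 := by
      show τ.app U (asMod A a - asMod A ((A.str.app (op U)).hom c)) = 0
      rw [map_sub]
      show T U a - T U ((A.str.app (op U)).hom c) = 0
      rw [← mul_one ((A.str.app (op U)).hom c), hTmul, hone]
      simp only [c]
      rw [mul_comm (v U), mul_assoc, hv, mul_one, sub_self]
    obtain ⟨l, hl⟩ : ∃ l, (kernel.ι τ).app U l = asMod A (a - (A.str.app (op U)).hom c) :=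
      ⟨_, OmegaSh.ι_kerLift τ U _ hker⟩
    refine ⟨(c, l), ?_⟩
    show (A.str.app (op U)).hom c + asRing A ((kernel.ι τ).app U l) = a
    rw [hl]; exact add_sub_cancel _ _
  · have hm : (((M2.mkHom B).val.app (op U)).hom (SecTwist.tmul _ _ U l l') : Γ(X, U)) =
        v U * T U (j U l * j U l') := M2.mkHom_tsec B l l'
    show j U l * j U l' = (A.str.app (op U)).hom _
    rw [hm]
    refine TopCat.Presheaf.section_ext ⟨A.presheaf, A.isSheaf⟩ U _ _ fun x hx => ?_
    obtain ⟨W, e, hW, hxW, hle, he⟩ := exists_affine_isBas A hA (show x ∈ U from hx)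
    have h0 : ∀ (k : Γ(kernel τ, W)), tr A W (j W k) = 0 := fun k =>
      (app_eq_tr' A hτ hW he ((kernel.ι τ).app W k)).symm.trans (hτι W k)
    have key : j W (mres _ hle l) * j W (mres _ hle l') = (A.str.app (op W)).hom
        (v W * T W (j W (mres _ hle l) * j W (mres _ hle l'))) := by
      refine (exists_str_eq_mul A he (hv W) (h0 (mres _ hle l)) (h0 (mres _ hle l'))).trans ?_
      exact congrArg (fun t : Γ(X, W) => (A.str.app (op W)).hom (v W * t))
        (app_eq_tr' A hτ hW he (asMod A (j W (mres _ hle l) * j W (mres _ hle l')))).symm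
    have e2 : A.presheaf.map (homOfLE hle).op (j U l * j U l') =
        A.presheaf.map (homOfLE hle).op ((A.str.app (op U)).hom (v U * T U (j U l * j U l'))) := by
      rw [map_mul, ← hjres, ← hjres, key]
      refine Eq.trans ?_ (congr($(A.str.naturality (homOfLE hle).op) (v U * T U (j U l * j U l'))))
      show (A.str.app (op W)).hom _ = (A.str.app (op W)).hom (ores hle (v U * T U (j U l * j U l')))
      congr 1
      rw [map_mul, hTres, map_mul, ← hjres, ← hjres]
      simp only [v, ores_ores]
    have := congrArg (A.presheaf.germ W x hxW) e2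
    erw [A.presheaf.germ_res_apply, A.presheaf.germ_res_apply] at this
    exact this

end Groth.Agent.Trace12
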