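import Groth.Agent.Lib.Trace12.Rank
import Groth.Agent.Lib.Twist.UniversalExist
import Mathlib.LinearAlgebra.Matrix.Trace

/-!
# The trace of a rank two algebra `O ⊕ L`
-/

set_option autoImplicit false
universe u

set_option linter.style.haveILetI false
set_option backward.isDefEq.respectTransparency false

open CategoryTheory CategoryTheory.Limits AlgebraicGeometry Opposite TopologicalSpace

namespace Groth.Agent.Trace12

open Groth.Agent.M1 Groth.Agent.P1Split

variable {X : Scheme.{u}}

theorem trace_eq_zero_iff_mem_range (L : X.Modules) (hL : PicF.IsInvertible L)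
    (m : CohB1.tensorMod L L ⟶ Coh.structureModule X) (A : RelSpec.QCAlg X) (j : L ⟶ A.toModule)
    (h : FinCov.IsDblAlg L m A j) (h2 : IsUnit (2 : Γ(X, ⊤)))
    (τ : A.toModule ⟶ Coh.structureModule X) (hτ : FinCov.IsTrace A τ)
    (U : X.Opens) (a : A.toModule.val.obj (op U)) :
    (τ.val.app (op U)).hom a = 0 ↔ a ∈ Set.range (j.val.app (op U)).hom := by
  have hdec : ∀ (V : X.Opens) (a : Γ(A.toModule, V)), ∃ (s : Γ(X, V)) (l : Γ(L, V)),
      asRing A a = (A.str.app (op V)).hom s + asRing A (j.app V l) := fun V a => by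
    obtain ⟨⟨s, l⟩, hsl⟩ := (h.1 V).2 (asRing A a)
    exact ⟨s, l, hsl.symm⟩
  have hbasis : ∀ {W : X.Opens} {g : Γ(L, W)}, Twist.IsGen L W g →
      IsBas (r := 2) A.toModule W ![asMod A (1 : A.presheaf.obj (op W)), j.app W g] := by
    intro W g hg V hV
    have e : (fun c : Fin 2 → Γ(X, V) =>
        ∑ i, c i • mres A.toModule hV (![asMod A (1 : A.presheaf.obj (op W)), j.app W g] i)) =
        (fun p : Γ(X, V) × Γ(L, V) => asMod A ((A.str.app (op V)).hom p.1 + asRing A (j.app V p.2))) ∘
          fun c => (c 0, c 1 • mres L hV g) := by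
      funext c
      rw [Fin.sum_univ_two]
      simp only [Matrix.cons_val_zero, Matrix.cons_val_one, Function.comp_apply,
        Scheme.Modules.Hom.app_smul, app_mres]
      show (A.str.app (op V)).hom (c 0) * A.presheaf.map (homOfLE hV).op 1 + _ = _
      rw [map_one, mul_one]
    rw [e]
    refine Function.Bijective.comp (h.1 V) ⟨fun c c' hcc => ?_, fun p => ?_⟩
    · obtain ⟨h0, h1⟩ := Prod.ext_iff.1 hcc
      funext i
      fin_cases i
      · exact h0
      · exact (hg V hV).1 h1
    · obtain ⟨c, hc⟩ := (hg V hV).2 p.2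
      exact ⟨![p.1, c], Prod.ext rfl hc⟩
  have hA : ∀ {x : X} {W : X.Opens}, x ∈ W → ∃ (V : X.Opens) (g : Γ(L, V)), IsAffineOpen V ∧ x ∈ V ∧ V ≤ W ∧
      Twist.IsGen L V g := by
    intro x W hx
    obtain ⟨D, g, hxD, hg⟩ := Groth.Agent.ProjUP.exists_isGen_of_invertible hL x
    obtain ⟨V, hV, hxV, hle⟩ := exists_isAffineOpen_mem_and_subset (show x ∈ D ⊓ W from ⟨hxD, hx⟩)
    exact ⟨V, _, hV, hxV, fun z hz => (hle hz).2, hg.mres fun z hz => (hle hz).1⟩
  have hj : ∀ (V : X.Opens) (l : Γ(L, V)), τ.app V (j.app V l) = 0 := by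
    intro V l
    refine TopCat.Presheaf.section_ext X.sheaf V _ _ fun x hx => ?_
    obtain ⟨W, g, hW, hxW, hle, hg⟩ := hA (show x ∈ V from hx)
    obtain ⟨c, hc⟩ := (hg W le_rfl).2 (mres L hle l)
    rw [mres_id] at hc
    have hzero : τ.app W (j.app W g) = 0 := by
      letI := alg A W
      obtain ⟨b, hb⟩ := exists_basis A (hbasis hg)
      rw [app_eq_tr' A hτ hW (hbasis hg)]
      show Algebra.trace Γ(X, W) (A.presheaf.obj (op W)) _ = 0
      rw [Algebra.trace_eq_matrix_trace b, Matrix.trace_fin_two, Algebra.leftMulMatrix_eq_repr_mul,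
        Algebra.leftMulMatrix_eq_repr_mul, hb, hb]
      simp only [Matrix.cons_val_zero, Matrix.cons_val_one]
      have h1 : asRing A (j.app W g) = b 1 := by rw [hb]; rfl
      have hsq : asRing A (j.app W g) * asRing A (j.app W g) =
          algebraMap Γ(X, W) (A.presheaf.obj (op W)) ((m.val.app (op W)).hom (SecTwist.tmul L L W g g)) := h.2 W g g
      have hone : (b 0) = 1 := by rw [hb]; rfl
      show b.repr (asRing A (j.app W g) * 1) 0 + b.repr (asRing A (j.app W g) * asRing A (j.app W g)) 1 = 0
      rw [mul_one, hsq, h1, Algebra.algebraMap_eq_smul_one, ← hone, map_smul, b.repr_self, b.repr_self,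
        Finsupp.single_eq_of_ne (by decide), Finsupp.smul_apply, Finsupp.single_eq_of_ne (by decide),
        smul_zero, add_zero]
    have h3 : mres (Coh.structureModule X) hle (τ.app V (j.app V l)) = 0 := by
      rw [← app_mres, ← app_mres, ← hc]
      show τ.app W (j.app W (c • g)) = 0
      rw [Scheme.Modules.Hom.app_smul, Scheme.Modules.Hom.app_smul, hzero, smul_zero]
    have h4 := congrArg (X.presheaf.germ W x hxW) h3
    erw [X.presheaf.germ_res_apply, map_zero] at h4
    exact h4.trans (map_zero (X.presheaf.germ V x hx).hom).symm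
  have hstr : ∀ (V : X.Opens) (s : Γ(X, V)),
      (τ.app V (asMod A ((A.str.app (op V)).hom s)) : Γ(X, V)) = 2 • s := by
    intro V s
    refine TopCat.Presheaf.section_ext X.sheaf V _ _ fun x hx => ?_
    obtain ⟨W, g, hW, hxW, hle, hg⟩ := hA (show x ∈ V from hx)
    have h3 : mres (Coh.structureModule X) hle (τ.app V (asMod A ((A.str.app (op V)).hom s))) =
        (ores hle (2 • s) : Γ(X, W)) := by
      rw [← app_mres, app_eq_tr' A hτ hW (hbasis hg),
        show asRing A (mres A.toModule hle (asMod A ((A.str.app (op V)).hom s))) =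
          (A.str.app (op W)).hom (ores hle s) from congr($(A.str.naturality (homOfLE hle).op) s).symm,
        tr_str A (hbasis hg), map_nsmul]
    have h4 := congrArg (X.presheaf.germ W x hxW) h3
    erw [X.presheaf.germ_res_apply, X.presheaf.germ_res_apply] at h4
    exact h4
  constructor
  · intro ha
    obtain ⟨s, l, hsl⟩ := hdec U a
    have h5 : (2 : ℕ) • s = 0 := by
      rw [← hstr]
      have : τ.app U a = τ.app U (asMod A ((A.str.app (op U)).hom s)) + τ.app U (j.app U l) := by
        rw [← map_add]; exact congrArg _ hsl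
      rw [hj, add_zero] at this
      exact this.symm.trans ha
    have h2U : IsUnit (2 : Γ(X, U)) := by
      have := h2.map (ores (le_top : U ≤ ⊤)).hom
      rwa [map_ofNat] at this
    have hs : s = 0 := h2U.mul_right_eq_zero.1 (by rw [two_mul, ← two_nsmul]; exact h5)
    refine ⟨l, ?_⟩
    show j.app U l = a
    show asRing A (j.app U l) = asRing A a
    rw [hsl, hs, map_zero, zero_add]
  · rintro ⟨l, rfl⟩
    exact hj U l

end Groth.Agent.Trace12
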